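import Groth.Agent.SmallELib9.Basic
import Groth.Prelude.Def_ChGrp

/-! Mapping properties of products and larger opens; orbit maps. -/

set_option autoImplicit false

universe u

open CategoryTheory CategoryTheory.Limits AlgebraicGeometry MonoidalCategory CartesianMonoidalCategory
open scoped MonObj

namespace SmallELib9

theorem neron_larger {S : Scheme.{u}} (S₀ S₁ : S.Opens) (h01 : S₀ ≤ S₁) (N : Over S)
    (hN0 : ∀ Z : Over S, Smooth Z.hom → Function.Bijective (fun g : Z ⟶ N => (Over.pullback S₀.ι).map g))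
    (hN10 : ∀ Z : Over (S₁ : Scheme.{u}), Smooth Z.hom →
      Function.Bijective (fun g : Z ⟶ (Over.pullback S₁.ι).obj N => (Over.pullback (S₁.ι ⁻¹ᵁ S₀).ι).map g)) :
    ∀ Z : Over S, Smooth Z.hom → Function.Bijective (fun g : Z ⟶ N => (Over.pullback S₁.ι).map g) := by
  intro Z hZ
  haveI hs : Smooth ((Over.pullback S₁.ι).obj Z).hom :=
    inferInstanceAs (Smooth (pullback.snd Z.hom S₁.ι))
  let j := S₁.ι ⁻¹ᵁ S₀
  have hj : S₁.ι ''ᵁ j = S₀ := by
    rw [Scheme.Hom.image_preimage_eq_opensRange_inf, Scheme.Opens.opensRange_ι, inf_eq_right.2 h01]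
  let e : (j : Scheme.{u}) ≅ (S₀ : Scheme.{u}) := S₁.ι.isoImage j ≪≫ S.isoOfEq hj
  have he : e.hom ≫ S₀.ι = j.ι ≫ S₁.ι := by simp [e]
  haveI : (Over.pullback e.hom).IsEquivalence :=
    (Over.mapPullbackAdj e.hom).isEquivalence_right_of_isEquivalence_left
  let iso : Over.pullback S₁.ι ⋙ Over.pullback j.ι ≅ Over.pullback S₀.ι ⋙ Over.pullback e.hom :=
    (Over.pullbackComp j.ι S₁.ι).symm ≪≫ pullbackCongr he.symm ≪≫ Over.pullbackComp e.hom S₀.ι
  have h0 : Function.Bijective (fun g : Z ⟶ N => (Over.pullback S₀.ι ⋙ Over.pullback e.hom).map g) :=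
    ((Functor.FullyFaithful.ofFullyFaithful (Over.pullback e.hom)).map_bijective _ _).comp (hN0 Z hZ)
  have h := bijective_map_of_iso iso.symm Z N h0
  exact (Function.Bijective.of_comp_iff' (hN10 ((Over.pullback S₁.ι).obj Z) hs) _).1 h

theorem bijective_map_prod {C D : Type*} [Category C] [Category D] {F : C ⥤ D} {G : D ⥤ C} (adj : G ⊣ F)
    {A B P : C} {a : P ⟶ A} {b : P ⟶ B} (hP : IsLimit (BinaryFan.mk a b)) (Z : C)
    (hA : Function.Bijective (fun g : Z ⟶ A => F.map g)) (hB : Function.Bijective (fun g : Z ⟶ B => F.map g)) :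
    Function.Bijective (fun g : Z ⟶ P => F.map g) := by
  haveI := adj.rightAdjoint_preservesLimits
  have hFP : IsLimit (BinaryFan.mk (F.map a) (F.map b)) :=
    mapIsLimitOfPreservesOfIsLimit F a b hP
  constructor
  · intro g g' h
    apply BinaryFan.IsLimit.hom_ext hP
    · exact hA.1 (show F.map (g ≫ a) = F.map (g' ≫ a) by
        rw [F.map_comp, F.map_comp]; exact congrArg (fun x => x ≫ F.map a) h)
    · exact hB.1 (show F.map (g ≫ b) = F.map (g' ≫ b) by
        rw [F.map_comp, F.map_comp]; exact congrArg (fun x => x ≫ F.map b) h)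
  · intro φ
    obtain ⟨u, hu⟩ := hA.2 (φ ≫ F.map a)
    obtain ⟨v, hv⟩ := hB.2 (φ ≫ F.map b)
    obtain ⟨g, hg₁, hg₂⟩ := BinaryFan.IsLimit.lift' hP u v
    change g ≫ a = u at hg₁
    change g ≫ b = v at hg₂
    refine ⟨g, BinaryFan.IsLimit.hom_ext hFP ?_ ?_⟩
    · change F.map g ≫ F.map a = φ ≫ F.map a
      rw [← Functor.map_comp, hg₁]; exact hu
    · change F.map g ≫ F.map b = φ ≫ F.map b
      rw [← Functor.map_comp, hg₂]; exact hv

theorem neron_prod {S : Scheme.{u}} (S₀ : S.Opens) (N M : Over S)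
    (hN : ∀ Z : Over S, Smooth Z.hom → Function.Bijective (fun g : Z ⟶ N => (Over.pullback S₀.ι).map g))
    (hM : ∀ Z : Over S, Smooth Z.hom → Function.Bijective (fun g : Z ⟶ M => (Over.pullback S₀.ι).map g)) :
    ∀ Z : Over S, Smooth Z.hom → Function.Bijective (fun g : Z ⟶ Over.mk (pullback.fst N.hom M.hom ≫ N.hom) =>
      (Over.pullback S₀.ι).map g) := fun Z hZ =>
  bijective_map_prod (Over.mapPullbackAdj S₀.ι) (a := fst N M) (b := snd N M)
    (CartesianMonoidalCategory.tensorProductIsBinaryProduct N M) Z (hN Z hZ) (hM Z hZ)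

theorem orbitMap_of_isHomog {S : Scheme.{u}} {G H : Over S} [GrpObj G] [GrpObj H] (i : H ⟶ G)
    {Q : Over S} (aQ : AlgGrp.Action G Q) (q₀ : 𝟙_ (Over S) ⟶ Q)
    (hQ : ChGrp.IsHomog Scheme.fppfPrecoverage i aQ q₀)
    (P : MorphismProperty Scheme.{u}) [P.IsStableUnderBaseChange]
    [P.IsLocalAtTarget Scheme.fppfPrecoverage]
    (hP : P H.hom) : P (aQ.orbitMap q₀).left := by
  obtain ⟨-, hpb, R, hR, hsec⟩ := hQ
  have h' : IsPullback ((G ◁ i) ≫ μ[G]).left (fst G H).left (aQ.orbitMap q₀).left (aQ.orbitMap q₀).left :=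
    (hpb.map (Over.forget S)).flip
  haveI : P.RespectsIso := (inferInstance : P.IsLocalAtTarget Scheme.fppfPrecoverage).toRespects
  have hsnd : P (pullback.snd (aQ.orbitMap q₀).left (aQ.orbitMap q₀).left) := by
    rw [← P.cancel_left_of_respectsIso h'.isoPullback.hom]
    convert (show P (fst G H).left from P.pullback_fst _ _ hP) using 1
    exact h'.isoPullback_hom_snd
  refine MorphismProperty.IsLocalAtTarget.of_forall_pullbackSnd (P := P) (K := Scheme.fppfPrecoverage) hR ?_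
  intro U f _ hf
  obtain ⟨s, hs⟩ := hsec f hf
  simp only [Over.mk_hom] at hs
  subst hs
  rw [← P.cancel_left_of_respectsIso (pullbackLeftPullbackSndIso (aQ.orbitMap q₀).left
    (aQ.orbitMap q₀).left s).hom]
  convert P.pullback_snd _ s hsnd using 1
  simp

end SmallELib9
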