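import Groth.Prelude.Def_Frob
import Mathlib

/-! Small lemmas: images in triple products, transitivity of mapping properties, Frobenius. -/

set_option autoImplicit false

universe u

open CategoryTheory CategoryTheory.Limits AlgebraicGeometry

namespace SmallELib9

theorem triple_image {X₁ X₂ X₃ B : Scheme.{u}} (π₁ : X₁ ⟶ B) (π₂ : X₂ ⟶ B) (π₃ : X₃ ⟶ B)
    (p₁₃ : pullback (pullback.snd π₁ π₂) (pullback.fst π₂ π₃) ⟶ pullback π₁ π₃)
    (h₁₃ : p₁₃ ≫ pullback.fst π₁ π₃ =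
      pullback.fst (pullback.snd π₁ π₂) (pullback.fst π₂ π₃) ≫ pullback.fst π₁ π₂)
    (h₁₃' : p₁₃ ≫ pullback.snd π₁ π₃ =
      pullback.snd (pullback.snd π₁ π₂) (pullback.fst π₂ π₃) ≫ pullback.snd π₂ π₃)
    (W₁ : Set ↥(pullback π₁ π₂)) (W₂ : Set ↥(pullback π₂ π₃)) (R₁ : Set X₁)
    (W₁₂ : Set ↥(pullback (pullback.snd π₁ π₂) (pullback.fst π₂ π₃)))
    (hW₁₂ : W₁₂ = (pullback.fst (pullback.snd π₁ π₂) (pullback.fst π₂ π₃)).base ⁻¹' W₁ ∩
      (pullback.snd (pullback.snd π₁ π₂) (pullback.fst π₂ π₃)).base ⁻¹' W₂)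
    (W₃ : Set ↥(pullback π₁ π₃)) (hW₃ : W₃ = p₁₃.base '' W₁₂)
    (R₂ : Set X₂) (hR₂ : R₂ = (pullback.snd π₁ π₂).base '' (W₁ ∩ (pullback.fst π₁ π₂).base ⁻¹' R₁))
    (R₃ : Set X₃) (hR₃ : R₃ = (pullback.snd (pullback.snd π₁ π₂) (pullback.fst π₂ π₃) ≫ pullback.snd π₂ π₃).base ''
      (W₁₂ ∩ (pullback.fst (pullback.snd π₁ π₂) (pullback.fst π₂ π₃) ≫ pullback.fst π₁ π₂).base ⁻¹' R₁)) :
    R₃ = (pullback.snd π₁ π₃).base '' (W₃ ∩ (pullback.fst π₁ π₃).base ⁻¹' R₁) ∧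
      R₃ = (pullback.snd π₂ π₃).base '' (W₂ ∩ (pullback.fst π₂ π₃).base ⁻¹' R₂) := by
  constructor
  · rw [hR₃, hW₃, ← Set.image_inter_preimage, ← Set.preimage_comp, ← Set.image_comp,
      ← h₁₃, ← h₁₃']
    rfl
  · rw [hR₃, hW₁₂]
    ext z
    constructor
    · rintro ⟨t, ⟨⟨h1, h2⟩, h3⟩, rfl⟩
      refine ⟨pullback.snd (pullback.snd π₁ π₂) (pullback.fst π₂ π₃) t, ⟨h2, ?_⟩, rfl⟩
      rw [hR₂]
      refine ⟨pullback.fst (pullback.snd π₁ π₂) (pullback.fst π₂ π₃) t, ⟨h1, h3⟩, ?_⟩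
      change (pullback.fst _ _ ≫ pullback.snd π₁ π₂) t = (pullback.snd _ _ ≫ pullback.fst π₂ π₃) t
      rw [pullback.condition]
    · rintro ⟨b, ⟨hb, hb'⟩, rfl⟩
      rw [hR₂] at hb'
      obtain ⟨a, ⟨ha, ha'⟩, hab⟩ := hb'
      obtain ⟨t, rfl, rfl⟩ := Scheme.Pullback.exists_preimage_pullback
        (f := pullback.snd π₁ π₂) (g := pullback.fst π₂ π₃) a b hab
      exact ⟨t, ⟨⟨ha, hb⟩, ha'⟩, rfl⟩

theorem bijective_map_of_iso {C D : Type*} [Category C] [Category D] {F G : C ⥤ D} (e : F ≅ G) (X Y : C)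
    (h : Function.Bijective (fun g : X ⟶ Y => F.map g)) : Function.Bijective (fun g : X ⟶ Y => G.map g) := by
  have : (fun g : X ⟶ Y => G.map g) = ((e.app X).homCongr (e.app Y)) ∘ fun g : X ⟶ Y => F.map g := by
    funext g
    simp
  rw [this]
  exact (Equiv.bijective _).comp h

/-- pullback along equal morphisms -/
noncomputable def pullbackCongr {A B : Scheme.{u}} {f g : A ⟶ B} (h : f = g) :
    Over.pullback f ≅ Over.pullback g :=
  eqToIso (by subst h; rfl)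

theorem neron_trans {S : Scheme.{u}} (S₀ S₁ : S.Opens) (h01 : S₀ ≤ S₁) (N : Over S)
    (hN1 : ∀ Z : Over S, Smooth Z.hom → Function.Bijective (fun g : Z ⟶ N => (Over.pullback S₁.ι).map g))
    (hN10 : ∀ Z : Over (S₁ : Scheme.{u}), Smooth Z.hom →
      Function.Bijective (fun g : Z ⟶ (Over.pullback S₁.ι).obj N => (Over.pullback (S₁.ι ⁻¹ᵁ S₀).ι).map g)) :
    ∀ Z : Over S, Smooth Z.hom → Function.Bijective (fun g : Z ⟶ N => (Over.pullback S₀.ι).map g) := by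
  intro Z hZ
  haveI hs : Smooth ((Over.pullback S₁.ι).obj Z).hom :=
    inferInstanceAs (Smooth (pullback.snd Z.hom S₁.ι))
  let j := S₁.ι ⁻¹ᵁ S₀
  have hj : S₁.ι ''ᵁ j = S₀ := by
    rw [Scheme.Hom.image_preimage_eq_opensRange_inf, Scheme.Opens.opensRange_ι, inf_eq_right.2 h01]
  let e : (j : Scheme.{u}) ≅ (S₀ : Scheme.{u}) := S₁.ι.isoImage j ≪≫ S.isoOfEq hj
  have he : e.hom ≫ S₀.ι = j.ι ≫ S₁.ι := by simp [e]
  haveI : (Over.pullback e.hom).IsEquivalence :=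
    (Over.mapPullbackAdj e.hom).isEquivalence_right_of_isEquivalence_left
  let iso : Over.pullback S₁.ι ⋙ Over.pullback j.ι ≅ Over.pullback S₀.ι ⋙ Over.pullback e.hom :=
    (Over.pullbackComp j.ι S₁.ι).symm ≪≫ pullbackCongr he.symm ≪≫ Over.pullbackComp e.hom S₀.ι
  have h0 : Function.Bijective (fun g : Z ⟶ N => (Over.pullback S₁.ι ⋙ Over.pullback j.ι).map g) :=
    (hN10 ((Over.pullback S₁.ι).obj Z) hs).comp (hN1 Z hZ)
  have h := bijective_map_of_iso iso Z N h0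
  exact (Function.Bijective.of_comp_iff' ((Functor.FullyFaithful.ofFullyFaithful (Over.pullback e.hom)).map_bijective _ _) _).1 h

theorem eq_of_relFrob_comp_eq (p : ℕ) [Fact p.Prime] {Y Z S : Scheme.{u}} [FrobSch.IsCharP S p]
    [IsReduced Y] (a : Y ⟶ S) (b : Z ⟶ S) (g₁ g₂ : Y ⟶ Z) (hg₁ : g₁ ≫ b = a) (hg₂ : g₂ ≫ b = a)
    (h : FrobSch.relFrob a p ≫ pullback.map a (FrobSch.frob S p) b (FrobSch.frob S p) g₁ (𝟙 S) (𝟙 S)
        ((Category.comp_id a).trans hg₁.symm) ((Category.comp_id _).trans (Category.id_comp _).symm) =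
      FrobSch.relFrob a p ≫ pullback.map a (FrobSch.frob S p) b (FrobSch.frob S p) g₂ (𝟙 S) (𝟙 S)
        ((Category.comp_id a).trans hg₂.symm) ((Category.comp_id _).trans (Category.id_comp _).symm)) :
    g₁ = g₂ := by
  haveI : FrobSch.IsCharP Y p := FrobSch.IsCharP.of_hom a p
  have h' := congrArg (· ≫ pullback.fst b (FrobSch.frob S p)) h
  simp only [Category.assoc, pullback.map, pullback.lift_fst, FrobSch.relFrob_fst_assoc] at h'
  have hb : g₁.base = g₂.base := by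
    have := congrArg (fun f => f.base) h'
    simpa using this
  refine Scheme.Hom.ext hb fun U => ?_
  have hU : g₁ ⁻¹ᵁ U = g₂ ⁻¹ᵁ U := TopologicalSpace.Opens.ext (by
    change g₁.base ⁻¹' _ = g₂.base ⁻¹' _
    rw [hb])
  ext t
  by_cases hne : Nonempty (g₂ ⁻¹ᵁ U)
  · haveI : CharP Γ(Y, g₂ ⁻¹ᵁ U) p :=
      (CharP.charP_iff_prime_eq_zero Fact.out).2 (FrobSch.natCast_eq_zero_app Y p _)
    apply frobenius_inj Γ(Y, g₂ ⁻¹ᵁ U) p
    rw [frobenius_def, frobenius_def]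
    have := congr($(Scheme.Hom.congr_app h' U) t)
    change (g₁.app U t) ^ p = Y.presheaf.map (eqToHom _).op ((g₂.app U t) ^ p) at this
    change (Y.presheaf.map _ (g₁.app U t)) ^ p = (g₂.app U t) ^ p
    rw [← map_pow, this, ← CommRingCat.comp_apply, ← Functor.map_comp,
      Subsingleton.elim (_ ≫ _) (𝟙 _), CategoryTheory.Functor.map_id]
    rfl
  · have : g₂ ⁻¹ᵁ U = ⊥ := by
      ext x
      simp only [TopologicalSpace.Opens.coe_bot, Set.mem_empty_iff_false, iff_false]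
      exact fun hx => hne ⟨⟨x, hx⟩⟩
    haveI : Subsingleton Γ(Y, g₂ ⁻¹ᵁ U) := this ▸ inferInstance
    exact Subsingleton.elim _ _

end SmallELib9
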