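import Groth.Agent.SmallELib9.Basic
import Groth.Agent.AlgSpLib.Basic

/-! Mapping property of composites with an etale model. -/

set_option autoImplicit false

universe u

open CategoryTheory CategoryTheory.Limits AlgebraicGeometry

namespace SmallELib9

theorem map_left_fst {S₀ S : Scheme.{u}} (j : S₀ ⟶ S) {Z N : Over S} (g : Z ⟶ N) :
    ((Over.pullback j).map g).left ≫ pullback.fst N.hom j = pullback.fst Z.hom j ≫ g.left :=
  pullback.lift_fst _ _ _

theorem map_eq_iff {S₀ S : Scheme.{u}} (j : S₀ ⟶ S) {Z N : Over S} (g g' : Z ⟶ N) :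
    (Over.pullback j).map g = (Over.pullback j).map g' ↔
      pullback.fst Z.hom j ≫ g.left = pullback.fst Z.hom j ≫ g'.left := by
  constructor
  · intro h
    rw [← map_left_fst, ← map_left_fst, h]
  · intro h
    refine Over.OverMorphism.ext (pullback.hom_ext ?_ ((Over.w _).trans (Over.w _).symm))
    exact (map_left_fst j g).trans (h.trans (map_left_fst j g').symm)

theorem exists_extend {S₀ S : Scheme.{u}} (j : S₀ ⟶ S) {Z N : Over S}
    (hb : Function.Bijective (fun g : Z ⟶ N => (Over.pullback j).map g))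
    (m : pullback Z.hom j ⟶ N.left) (hm : m ≫ N.hom = pullback.fst Z.hom j ≫ Z.hom) :
    ∃ g : Z ⟶ N, pullback.fst Z.hom j ≫ g.left = m := by
  obtain ⟨g, hg⟩ := hb.2 (Over.homMk (pullback.lift m (pullback.snd Z.hom j)
    (hm.trans pullback.condition)) (pullback.lift_snd _ _ _))
  refine ⟨g, ?_⟩
  rw [← map_left_fst, show (Over.pullback j).map g = _ from hg]
  exact pullback.lift_fst _ _ _

theorem neron_comp_etale {T : Scheme.{u}} (T₀ : T.Opens)
    {S N : Scheme.{u}} (f : S ⟶ T) [Etale f] (g : N ⟶ S)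
    (hS : ∀ Z : Over T, Smooth Z.hom → Function.Bijective (fun g : Z ⟶ Over.mk f => (Over.pullback T₀.ι).map g))
    (hN : ∀ Z : Over S, Smooth Z.hom →
      Function.Bijective (fun g : Z ⟶ Over.mk g => (Over.pullback (f ⁻¹ᵁ T₀).ι).map g)) :
    ∀ Z : Over T, Smooth Z.hom → Function.Bijective (fun g : Z ⟶ Over.mk (g ≫ f) => (Over.pullback T₀.ι).map g) := by
  intro Z hZ
  -- an object over `S` lifting `Z`
  have key : ∀ h : Z ⟶ Over.mk f, Smooth (Over.mk h.left).hom ∧
      ∃ κ : pullback h.left (f ⁻¹ᵁ T₀).ι ≅ pullback Z.hom T₀.ι,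
        κ.hom ≫ pullback.fst Z.hom T₀.ι = pullback.fst h.left (f ⁻¹ᵁ T₀).ι := by
    intro h
    have hw : h.left ≫ f = Z.hom := Over.w h
    haveI : Smooth (h.left ≫ f) := hw ▸ hZ
    refine ⟨AlgSpLib.smooth_of_comp_etale h.left f, ?_⟩
    have hsq : IsPullback (pullback.fst h.left (f ⁻¹ᵁ T₀).ι) (pullback.snd h.left (f ⁻¹ᵁ T₀).ι ≫ f ∣_ T₀)
        Z.hom T₀.ι := by
      rw [← hw]
      exact (IsPullback.of_hasPullback h.left (f ⁻¹ᵁ T₀).ι).paste_vert (isPullback_morphismRestrict f T₀).flip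
    exact ⟨hsq.isoPullback, hsq.isoPullback_hom_fst⟩
  constructor
  · intro l l' hll
    replace hll := (map_eq_iff T₀.ι l l').1 hll
    let h : Z ⟶ Over.mk f := Over.homMk (l.left ≫ g) ((Category.assoc _ _ _).trans (Over.w l))
    let h' : Z ⟶ Over.mk f := Over.homMk (l'.left ≫ g) ((Category.assoc _ _ _).trans (Over.w l'))
    have hh : h = h' := (hS Z hZ).1 ((map_eq_iff T₀.ι h h').2 (by
      change pullback.fst Z.hom T₀.ι ≫ l.left ≫ g = pullback.fst Z.hom T₀.ι ≫ l'.left ≫ g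
      rw [reassoc_of% hll]))
    obtain ⟨hs, κ, hκ⟩ := key h
    let a : Over.mk h.left ⟶ Over.mk g := Over.homMk l.left rfl
    let a' : Over.mk h.left ⟶ Over.mk g := Over.homMk l'.left (congrArg (fun x => x.left) hh).symm
    have : a = a' := (hN _ hs).1 ((map_eq_iff _ a a').2 (by
      change pullback.fst h.left (f ⁻¹ᵁ T₀).ι ≫ l.left = pullback.fst h.left (f ⁻¹ᵁ T₀).ι ≫ l'.left
      rw [← hκ, Category.assoc, Category.assoc, hll]))
    exact Over.OverMorphism.ext (congrArg (fun x => x.left) this :)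
  · intro φ
    let m : pullback Z.hom T₀.ι ⟶ N := φ.left ≫ pullback.fst (g ≫ f) T₀.ι
    have hm : m ≫ g ≫ f = pullback.fst Z.hom T₀.ι ≫ Z.hom := by
      have hφ : φ.left ≫ pullback.snd (g ≫ f) T₀.ι = pullback.snd Z.hom T₀.ι := Over.w φ
      rw [show m ≫ g ≫ f = φ.left ≫ pullback.fst (g ≫ f) T₀.ι ≫ g ≫ f from Category.assoc _ _ _,
        pullback.condition, reassoc_of% hφ, pullback.condition]
    obtain ⟨h, hh⟩ := exists_extend T₀.ι (hS Z hZ) (m ≫ g) ((Category.assoc _ _ _).trans hm)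
    obtain ⟨hs, κ, hκ⟩ := key h
    obtain ⟨l, hl⟩ := exists_extend (f ⁻¹ᵁ T₀).ι (hN (Over.mk h.left) hs) (κ.hom ≫ m) (by
      change (κ.hom ≫ m) ≫ g = pullback.fst h.left (f ⁻¹ᵁ T₀).ι ≫ h.left
      rw [Category.assoc, ← hh, reassoc_of% hκ])
    have hl' : l.left ≫ g = h.left := Over.w l
    refine ⟨Over.homMk l.left ?_, ?_⟩
    · change l.left ≫ g ≫ f = Z.hom
      rw [reassoc_of% hl']
      exact Over.w h
    · refine Over.OverMorphism.ext (pullback.hom_ext ?_ ((Over.w _).trans (Over.w φ).symm))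
      refine (map_left_fst T₀.ι _).trans ?_
      change pullback.fst Z.hom T₀.ι ≫ l.left = m
      rw [← cancel_epi κ.hom, reassoc_of% hκ]
      exact hl

end SmallELib9
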