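import Groth.Agent.SmallELib9.Basic

/-! Mapping property of fibres; extensions of homomorphisms. -/

set_option autoImplicit false

universe u

open CategoryTheory CategoryTheory.Limits AlgebraicGeometry MonoidalCategory CartesianMonoidalCategory
open scoped MonObj

namespace SmallELib9

theorem neron_fibre {S : Scheme.{u}} (S₀ : S.Opens) (G H : Over S)
    (hG : ∀ Z : Over S, Smooth Z.hom → Function.Bijective (fun g : Z ⟶ G => (Over.pullback S₀.ι).map g))
    (hH : ∀ Z : Over S, Smooth Z.hom → Function.Bijective (fun g : Z ⟶ H => (Over.pullback S₀.ι).map g))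
    (f : G ⟶ H) (e : S ⟶ H.left) (he : e ≫ H.hom = 𝟙 S) :
    ∀ Z : Over S, Smooth Z.hom →
      Function.Bijective (fun g : Z ⟶ Over.mk (pullback.snd f.left e) => (Over.pullback S₀.ι).map g) := by
  intro Z hZ
  have hc : pullback.fst f.left e ≫ G.hom = pullback.snd f.left e := by
    rw [← Over.w f, pullback.condition_assoc, he, Category.comp_id]
  let K : Over S := Over.mk (pullback.snd f.left e)
  let a : K ⟶ G := Over.homMk (pullback.fst f.left e) hc
  let eo : Over.mk (𝟙 S) ⟶ H := Over.homMk e he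
  let t : ∀ W : Over S, W ⟶ Over.mk (𝟙 S) := fun W => Over.homMk W.hom (by simp)
  have uniq : ∀ {W : Over (S₀ : Scheme.{u})} (p q : W ⟶ (Over.pullback S₀.ι).obj (Over.mk (𝟙 S))), p = q := by
    intro W p q
    refine Over.OverMorphism.ext (pullback.hom_ext ?_ ((Over.w p).trans (Over.w q).symm))
    have hh : (pullback.fst (𝟙 S) S₀.ι : _ ⟶ S) = pullback.snd (𝟙 S) S₀.ι ≫ S₀.ι := by
      simpa using (pullback.condition (f := 𝟙 S) (g := S₀.ι))
    change p.left ≫ pullback.fst (𝟙 S) S₀.ι = q.left ≫ pullback.fst (𝟙 S) S₀.ι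
    rw [hh, reassoc_of% (show p.left ≫ pullback.snd (𝟙 S) S₀.ι = W.hom from Over.w p),
      reassoc_of% (show q.left ≫ pullback.snd (𝟙 S) S₀.ι = W.hom from Over.w q)]
  constructor
  · intro g g' h
    have h1 : g ≫ a = g' ≫ a := (hG Z hZ).1 (by
      simp only [Functor.map_comp]
      exact congrArg (fun x => x ≫ (Over.pullback S₀.ι).map a) h)
    refine Over.OverMorphism.ext (pullback.hom_ext (congrArg (fun x => x.left) h1) ?_)
    exact (Over.w g).trans (Over.w g').symm
  · intro φ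
    obtain ⟨u, hu⟩ := (hG Z hZ).2 (φ ≫ (Over.pullback S₀.ι).map a)
    have hae : a ≫ f = t K ≫ eo := Over.OverMorphism.ext pullback.condition
    have hu' : u ≫ f = t Z ≫ eo := (hH Z hZ).1 (by
      simp only [Functor.map_comp] at hu ⊢
      rw [hu, Category.assoc, ← Functor.map_comp, hae, Functor.map_comp, ← Category.assoc]
      exact congrArg (fun x => x ≫ (Over.pullback S₀.ι).map eo) (uniq _ _))
    have hu'' : u.left ≫ f.left = Z.hom ≫ e := congrArg (fun x => x.left) hu'
    refine ⟨Over.homMk (pullback.lift u.left Z.hom hu'') (pullback.lift_snd _ _ _), ?_⟩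
    let g : Z ⟶ K := Over.homMk (pullback.lift u.left Z.hom hu'') (pullback.lift_snd _ _ _)
    have hga : g ≫ a = u := Over.OverMorphism.ext (pullback.lift_fst _ _ _)
    change (Over.pullback S₀.ι).map g = φ
    have h1 : (Over.pullback S₀.ι).map g ≫ (Over.pullback S₀.ι).map a = φ ≫ (Over.pullback S₀.ι).map a := by
      rw [← Functor.map_comp, hga]; exact hu
    haveI := (Over.mapPullbackAdj S₀.ι).rightAdjoint_preservesLimits
    have hsq : IsPullback a (t K) f eo := by
      refine IsPullback.of_map (Over.forget S) hae ?_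
      exact IsPullback.of_hasPullback f.left e
    exact (hsq.map (Over.pullback S₀.ι)).hom_ext h1 (uniq _ _)

theorem isMonHom_of_restrict {S : Scheme.{u}} (S₀ : S.Opens) (G H : Over S) [GrpObj G] [GrpObj H]
    [Smooth H.hom]
    (hG : ∀ Z : Over S, Smooth Z.hom → Function.Bijective (fun g : Z ⟶ G => (Over.pullback S₀.ι).map g))
    (f : H ⟶ G)
    (hf : (Over.pullback S₀.ι).map (μ[H] ≫ f) = (Over.pullback S₀.ι).map ((f ⊗ₘ f) ≫ μ[G])) :
    IsMonHom f := by
  haveI : Smooth (H ⊗ H).hom := by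
    rw [Over.tensorObj_hom]
    infer_instance
  have hm : μ[H] ≫ f = (f ⊗ₘ f) ≫ μ[G] := (hG (H ⊗ H) inferInstance).1 hf
  refine ⟨?_, hm⟩
  have h1 : ((1 : 𝟙_ (Over S) ⟶ H) ≫ f) = (1 : _ ⟶ H) ≫ f * ((1 : _ ⟶ H) ≫ f) := by
    rw [Hom.mul_def, ← lift_map, Category.assoc, ← hm, ← Category.assoc, ← Hom.mul_def, one_mul]
  have h2 : (1 : 𝟙_ (Over S) ⟶ H) ≫ f = 1 := left_eq_mul.1 h1
  rw [Hom.one_def, Hom.one_def, toUnit_unique (toUnit (𝟙_ (Over S))) (𝟙 _), Category.id_comp,
    Category.id_comp] at h2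
  exact h2

end SmallELib9
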