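import Mathlib

/-! A monic binary form in the ideal of homogenized translates. -/

set_option autoImplicit false

universe u

namespace SmallELib9

open MvPolynomial

theorem exists_monic_form {k : Type u} [CommRing k] (d n : ℕ) (u : MvPolynomial (Fin d) k) (v : Fin d → k)
    (J : Finset (Fin n)) (N s : ℕ) (hs : N ≤ s)
    {Λ : Type u} [Fintype Λ] (f : Λ → MvPolynomial (Fin d ⊕ Fin n) k)
    (hdeg : ∀ l, ∀ m ∈ (f l).support, ∑ i : Fin d, m (Sum.inl i) ≤ N)
    (c : ℕ → MvPolynomial (Fin d ⊕ Fin n) k)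
    (hE : (∏ j ∈ J, MvPolynomial.X (Sum.inr j)) ^ N +
        ∑ i ∈ Finset.Icc 1 N, c i * (∏ j ∈ J, MvPolynomial.X (Sum.inr j)) ^ (N - i) *
          MvPolynomial.rename Sum.inl u ^ i ∈ Ideal.span (Set.range f)) :
    ∃ c' : ℕ → Polynomial (MvPolynomial (Fin d ⊕ Fin n) k),
      (Polynomial.X * Polynomial.C (∏ j ∈ J, MvPolynomial.X (Sum.inr j))) ^ N +
        ∑ i ∈ Finset.Icc 1 N, c' i *
          (Polynomial.X * Polynomial.C (∏ j ∈ J, MvPolynomial.X (Sum.inr j))) ^ (N - i) *
            Polynomial.C (MvPolynomial.rename Sum.inl u) ^ i ∈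
      Ideal.span (Set.range fun l : Λ =>
        ∑ m ∈ (f l).support,
          Polynomial.C (MvPolynomial.C (MvPolynomial.coeff m (f l))) *
            Polynomial.X ^ (N - ∑ i : Fin d, m (Sum.inl i)) *
            (∏ i : Fin d, (Polynomial.X * Polynomial.C (MvPolynomial.X (Sum.inl i)) +
                Polynomial.C (MvPolynomial.rename Sum.inl u ^ s * MvPolynomial.C (v i))) ^ m (Sum.inl i)) *
            ∏ j : Fin n, Polynomial.C (MvPolynomial.X (Sum.inr j)) ^ m (Sum.inr j)) := by
  classical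
  set ζ : MvPolynomial (Fin d ⊕ Fin n) k := ∏ j ∈ J, MvPolynomial.X (Sum.inr j)
  set u' : MvPolynomial (Fin d ⊕ Fin n) k := MvPolynomial.rename Sum.inl u
  set φ := fun l : Λ =>
        ∑ m ∈ (f l).support,
          Polynomial.C (MvPolynomial.C (MvPolynomial.coeff m (f l))) *
            Polynomial.X ^ (N - ∑ i : Fin d, m (Sum.inl i)) *
            (∏ i : Fin d, (Polynomial.X * Polynomial.C (MvPolynomial.X (Sum.inl i)) +
                Polynomial.C (u' ^ s * MvPolynomial.C (v i))) ^ m (Sum.inl i)) *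
            ∏ j : Fin n, Polynomial.C (MvPolynomial.X (Sum.inr j)) ^ m (Sum.inr j) with hφ
  -- expansion of a monomial
  have hmon : ∀ (l : Λ) (m : Fin d ⊕ Fin n →₀ ℕ), m ∈ (f l).support →
      Polynomial.C (MvPolynomial.C (MvPolynomial.coeff m (f l))) *
        Polynomial.X ^ (N - ∑ i : Fin d, m (Sum.inl i)) *
        (∏ i : Fin d, (Polynomial.X * Polynomial.C (MvPolynomial.X (Sum.inl i))) ^ m (Sum.inl i)) *
        ∏ j : Fin n, Polynomial.C (MvPolynomial.X (Sum.inr j)) ^ m (Sum.inr j) =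
      Polynomial.X ^ N * Polynomial.C (monomial m (MvPolynomial.coeff m (f l))) := by
    intro l m hm
    rw [monomial_eq, Finsupp.prod_fintype _ _ (fun i => by simp), Fintype.prod_sum_type, map_mul, map_mul,
      map_prod, map_prod]
    simp only [mul_pow, Finset.prod_mul_distrib, Finset.prod_pow_eq_pow_sum, map_pow]
    rw [← Nat.sub_add_cancel (hdeg l m hm), pow_add, Nat.sub_add_cancel (hdeg l m hm)]
    ring
  obtain ⟨g, hg⟩ := (Ideal.mem_span_range_iff_exists_fun).1 hE
  rcases Nat.eq_zero_or_pos N with hN | hN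
  · subst hN
    refine ⟨0, ?_⟩
    have hφ0 : ∀ l, φ l = Polynomial.C (f l) := fun l => by
      conv_rhs => rw [MvPolynomial.as_sum (f l), map_sum]
      refine Finset.sum_congr rfl fun m hm => ?_
      have h0 : ∀ i : Fin d, m (Sum.inl i) = 0 := fun i =>
        Nat.le_zero.1 ((Finset.single_le_sum (fun j _ => Nat.zero_le (m (Sum.inl j))) (Finset.mem_univ i)).trans
          (hdeg l m hm))
      have h := hmon l m hm
      simp only [h0, pow_zero, Finset.prod_const_one, mul_one, one_mul] at h ⊢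
      exact h
    refine (Ideal.mem_span_range_iff_exists_fun).2 ⟨fun l => Polynomial.C (g l), ?_⟩
    simp only [hφ0, ← map_mul, ← map_sum, hg]
    simp
  let I : Ideal (Polynomial (MvPolynomial (Fin d ⊕ Fin n) k)) := Ideal.span {Polynomial.C u' ^ N}
  let q := Ideal.Quotient.mk I
  have hu : ∀ i, q (Polynomial.C (u' ^ s * MvPolynomial.C (v i))) = 0 := fun i => by
    refine Ideal.Quotient.eq_zero_iff_mem.2 ?_
    rw [map_mul, map_pow, ← Nat.sub_add_cancel hs, pow_add]
    exact Ideal.mul_mem_right _ _ (Ideal.mul_mem_left _ _ (Ideal.mem_span_singleton_self _))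
  have key : ∀ l, q (φ l) = q (Polynomial.X ^ N * Polynomial.C (f l)) := fun l => by
    conv_rhs => rw [MvPolynomial.as_sum (f l), map_sum, Finset.mul_sum, map_sum]
    rw [hφ, map_sum]
    refine Finset.sum_congr rfl fun m hm => ?_
    have hstep : q (∏ i : Fin d, (Polynomial.X * Polynomial.C (MvPolynomial.X (Sum.inl i)) +
        Polynomial.C (u' ^ s * MvPolynomial.C (v i))) ^ m (Sum.inl i)) =
        q (∏ i : Fin d, (Polynomial.X * Polynomial.C (MvPolynomial.X (Sum.inl i))) ^ m (Sum.inl i)) := by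
      simp only [map_prod]
      exact Finset.prod_congr rfl fun i _ => by rw [map_pow, map_pow, map_add, hu i, add_zero]
    rw [← hmon l m hm, map_mul q, map_mul q, hstep, ← map_mul q, ← map_mul q]
  have hmem : ∑ l, Polynomial.C (g l) * φ l - ∑ l, Polynomial.C (g l) * (Polynomial.X ^ N * Polynomial.C (f l)) ∈ I := by
    rw [← Ideal.Quotient.eq]
    simp only [map_sum, map_mul]
    exact Finset.sum_congr rfl fun l _ => by rw [show q (φ l) = _ from key l, map_mul]
  obtain ⟨R, hR⟩ := Ideal.mem_span_singleton'.1 hmem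
  refine ⟨fun i => Polynomial.X ^ i * Polynomial.C (c i) + if i = N then R else 0,
    (Ideal.mem_span_range_iff_exists_fun).2 ⟨fun l => Polynomial.C (g l), ?_⟩⟩
  change ∑ l, Polynomial.C (g l) * φ l = _
  rw [sub_eq_iff_eq_add.1 hR.symm]
  simp only [add_mul, Finset.sum_add_distrib, ite_mul, zero_mul, Finset.sum_ite_eq', Finset.mem_Icc,
    le_refl, and_true, Nat.one_le_iff_ne_zero.2 hN.ne', if_true, Nat.sub_self, pow_zero, mul_one]
  simp only [mul_left_comm (Polynomial.C (g _)), ← Finset.mul_sum, ← map_mul, ← map_sum, hg]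
  rw [map_add, mul_add, map_sum, Finset.mul_sum, map_pow, mul_pow]
  have : ∀ i ∈ Finset.Icc 1 N, Polynomial.X ^ N * Polynomial.C (c i * ζ ^ (N - i) * u' ^ i) =
      Polynomial.X ^ i * Polynomial.C (c i) * (Polynomial.X * Polynomial.C ζ) ^ (N - i) * Polynomial.C u' ^ i := by
    intro i hi
    rw [mul_pow, map_mul, map_mul, map_pow, map_pow]
    conv_lhs => rw [← Nat.add_sub_cancel' (Finset.mem_Icc.1 hi).2, pow_add, Nat.add_sub_cancel' (Finset.mem_Icc.1 hi).2]
    ring
  rw [Finset.sum_congr rfl this]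
  simp only [mul_pow]
  ring

end SmallELib9
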